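/- The sequence `0 → ∐ F → ∐ F → colim F → 0` for exact sequential colimits. -/
import Mathlib.CategoryTheory.Abelian.GrothendieckAxioms.Colim
import Mathlib.Algebra.Homology.ShortComplex.ShortExact
import Mathlib.CategoryTheory.Limits.Connected
import Mathlib.CategoryTheory.Filtered.Connected
import Mathlib.Algebra.BigOperators.Group.Finset.Piecewise

set_option autoImplicit false

open CategoryTheory CategoryTheory.Limits

universe v u

namespace Groth.Agent.SeqColim.ShortExact

variable {A : Type u} [Category.{v} A] [Abelian A]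

/-- The finite partial coproducts. -/
noncomputable abbrev partialSum (F : ℕ ⥤ A) : ℕ ⥤ A where
  obj n := ∐ fun k : Fin n => F.obj k
  map {n m} h := Sigma.desc fun k =>
    Sigma.ι (fun k : Fin m => F.obj k) (Fin.castLE (leOfHom h) k)
  map_id n := by
    refine Sigma.hom_ext _ _ fun k => ?_
    simp
  map_comp g h := by
    refine Sigma.hom_ext _ _ fun k => ?_
    simp only [Sigma.ι_desc, Sigma.ι_desc_assoc]
    rfl

/-- `∐ F` as cocone of the partial sums. -/
noncomputable abbrev cocone (F : ℕ ⥤ A) [HasCoproduct F.obj] : Cocone (partialSum F) where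
  pt := ∐ F.obj
  ι :=
    { app := fun n => Sigma.desc fun k : Fin n => Sigma.ι F.obj k
      naturality := fun n m h => by
        refine Sigma.hom_ext _ _ fun k => ?_
        simp [partialSum] }

noncomputable def isColimit (F : ℕ ⥤ A) [HasCoproduct F.obj] : IsColimit (cocone F) where
  desc c := Sigma.desc fun k =>
    Sigma.ι (fun i : Fin (k + 1) => F.obj i) (Fin.last k) ≫ c.ι.app (k + 1)
  fac c n := by
    refine Sigma.hom_ext _ _ fun k => ?_
    have h := c.w (homOfLE (Nat.succ_le_of_lt k.isLt) : k.val + 1 ⟶ n)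
    dsimp [cocone]
    rw [Sigma.ι_desc_assoc, Sigma.ι_desc, ← h]
    dsimp [partialSum]
    rw [Sigma.ι_desc_assoc]
    rfl
  uniq c m hm := by
    refine Sigma.hom_ext _ _ fun k => ?_
    rw [Sigma.ι_desc, ← hm (k + 1)]
    dsimp [cocone]
    rw [Sigma.ι_desc_assoc]
    rfl

theorem shortExact [HasColimitsOfShape ℕ A] [HasExactColimitsOfShape ℕ A] (F : ℕ ⥤ A)
    [HasCoproduct F.obj] (a : (∐ F.obj) ⟶ ∐ F.obj)
    (ha : ∀ n, Sigma.ι F.obj n ≫ a =
      Sigma.ι F.obj n - F.map (homOfLE (Nat.le_succ n)) ≫ Sigma.ι F.obj (n + 1)) :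
    ∃ w : a ≫ Sigma.desc (fun n => colimit.ι F n) = 0, (ShortComplex.mk _ _ w).ShortExact := by
  have w : a ≫ Sigma.desc (fun n => colimit.ι F n) = 0 := by
    refine Sigma.hom_ext _ _ fun n => ?_
    rw [← Category.assoc, ha, Preadditive.sub_comp, Category.assoc, Sigma.ι_desc, Sigma.ι_desc,
      colimit.w, sub_self, comp_zero]
  have hmono : Mono a := by
    let φ : partialSum F ⟶ (Functor.const ℕ).obj (∐ F.obj) :=
      { app := fun n => (cocone F).ι.app n ≫ a
        naturality := fun n m h => by
          have := (cocone F).w h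
          dsimp at this ⊢
          rw [Category.comp_id, reassoc_of% this] }
    haveI : ∀ n, Mono (φ.app n) := by
      intro n
      let r : (∐ F.obj) ⟶ (partialSum F).obj n := Sigma.desc fun k =>
        ∑ m : Fin n, if h : k ≤ m.val then
          F.map (homOfLE h) ≫ Sigma.ι (fun i : Fin n => F.obj i) m else 0
      have key : φ.app n ≫ r = 𝟙 _ := by
        refine Sigma.hom_ext _ _ fun k => ?_
        dsimp [φ, cocone]
        rw [Category.assoc, Sigma.ι_desc_assoc, ← Category.assoc, ha, Preadditive.sub_comp,
          Category.assoc, Category.comp_id, Sigma.ι_desc, Sigma.ι_desc, Preadditive.comp_sum,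
          ← Finset.sum_sub_distrib, Finset.sum_eq_single k]
        · rw [dif_pos le_rfl, dif_neg (by omega)]
          simp
        · intro m _ hm
          by_cases h : k.val ≤ m.val
          · have h' : k.val + 1 ≤ m.val :=
              Nat.lt_of_le_of_ne h (fun e => hm (Fin.ext e.symm))
            rw [dif_pos h, dif_pos h', ← Category.assoc, ← F.map_comp, homOfLE_comp, sub_self]
          · rw [dif_neg h, dif_neg (by omega), comp_zero, sub_zero]
        · simp
      haveI : Mono (φ.app n ≫ r) := by rw [key]; infer_instance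
      exact mono_of_mono (φ.app n) r
    haveI : Mono φ := NatTrans.mono_of_mono_app φ
    haveI : IsConnected ℕ := IsFiltered.isConnected ℕ
    exact colim.map_mono' φ (isColimit F) (isColimitConstCocone ℕ (∐ F.obj)) a
      (fun j => by
        exact (Category.comp_id _).symm)
  have hf : ∀ (W : A) (g : (∐ F.obj) ⟶ W), a ≫ g = 0 → ∀ n,
      F.map (homOfLE (Nat.le_succ n)) ≫ Sigma.ι F.obj (n + 1) ≫ g = Sigma.ι F.obj n ≫ g := by
    intro W g hg n
    have h := congrArg (fun t => Sigma.ι F.obj n ≫ t) hg
    simp only [comp_zero] at h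
    rw [← Category.assoc, ha, Preadditive.sub_comp, Category.assoc, sub_eq_zero] at h
    exact h.symm
  have hcoc : ∀ (W : A) (g : (∐ F.obj) ⟶ W), a ≫ g = 0 → ∀ n m (h : n ≤ m),
      F.map (homOfLE h) ≫ Sigma.ι F.obj m ≫ g = Sigma.ι F.obj n ≫ g := by
    intro W g hg n m h
    induction m, h using Nat.le_induction with
    | base => simp
    | succ m hnm ih =>
      rw [show homOfLE (Nat.le_succ_of_le hnm) = homOfLE hnm ≫ homOfLE (Nat.le_succ m) from rfl,
        F.map_comp, Category.assoc, hf W g hg, ih]
  haveI : Epi (Sigma.desc (fun n => colimit.ι F n)) :=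
    ⟨fun u v huv => colimit.hom_ext fun n => by
      simpa using congrArg (fun t => Sigma.ι F.obj n ≫ t) huv⟩
  haveI := hmono
  refine ⟨w, { exact := ShortComplex.exact_of_g_is_cokernel _ ?_ }⟩
  refine CokernelCofork.IsColimit.ofπ _ _ (fun {W} g hg => colimit.desc F
    { pt := W
      ι :=
        { app := fun n => Sigma.ι F.obj n ≫ g
          naturality := fun n m h => by
            have := hcoc W g hg n m (leOfHom h)
            dsimp
            rw [Category.comp_id, Subsingleton.elim h (homOfLE (leOfHom h)), this] } }) ?_ ?_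
  · intro W g hg
    refine Sigma.hom_ext _ _ fun n => ?_
    simp
  · intro W g hg m hm
    refine colimit.hom_ext fun n => ?_
    simp [← hm]

end Groth.Agent.SeqColim.ShortExact
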